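import Groth.Agent.DerCoprod.Main
import Groth.Agent.ModTensor.Sheaf
import Groth.Agent.AlgSpQC.MainExt
import Mathlib.CategoryTheory.Abelian.GrothendieckAxioms.FunctorCategory

/-! Coproducts of modules on the small étale site are exact. -/

set_option autoImplicit false
set_option linter.style.haveILetI false
set_option backward.isDefEq.respectTransparency false
set_option backward.isDefEq.respectTransparency.types false

universe u

open CategoryTheory Limits AlgebraicGeometry

noncomputable section

namespace Groth.Agent.DerCoprod

variable {S : Scheme.{u}} (X : AlgSp.Sp S) (ι : Type (u + 1))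

instance hasExactColimitsOfShape_modEt : HasExactColimitsOfShape (Discrete ι) (AlgSp.ModEt X) := by
  haveI : ReflectsFiniteLimits (PresheafOfModules.toPresheaf.{u + 1} (AlgSp.OEtRing X).obj) :=
    ⟨fun J _ _ => reflectsLimitsOfShape_of_reflectsIsomorphisms⟩
  haveI : HasExactColimitsOfShape (Discrete ι) (PresheafOfModules.{u + 1} (AlgSp.OEtRing X).obj) :=
    HasExactColimitsOfShape.domain_of_functor _ (PresheafOfModules.toPresheaf.{u + 1} (AlgSp.OEtRing X).obj)
  exact Groth.Agent.ModTensor.hasExactColimitsOfShape_of_reflective
    (PresheafOfModules.sheafificationAdjunction (𝟙 (AlgSp.OEtRing X).obj)) (Discrete ι)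

end Groth.Agent.DerCoprod

end
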