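import Groth.Agent.KInj.Products
import Mathlib.Algebra.Homology.DerivedCategory.Fractions
import Mathlib.Algebra.Homology.HomologicalComplexLimits
import Mathlib.CategoryTheory.Abelian.GrothendieckAxioms.Basic

/-! Coproducts in derived categories of abelian categories with exact coproducts. -/

set_option autoImplicit false
set_option linter.style.haveILetI false
set_option maxHeartbeats 800000

universe w w' v u

open CategoryTheory Limits

noncomputable section

namespace Groth.Agent.DerCoprod

variable {C : Type u} [Category.{v} C] [Abelian C] {ι : Type w'}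

/-- A family of complexes as a complex of families. -/
def famCx (F : ι → CochainComplex C ℤ) : CochainComplex (Discrete ι ⥤ C) ℤ where
  X n := Discrete.functor fun i => (F i).X n
  d m n := Discrete.natTrans fun i => (F i.as).d m n
  shape m n h := by ext ⟨i⟩; exact (F i).shape m n h
  d_comp_d' m n p _ _ := by ext ⟨i⟩; exact (F i).d_comp_d m n p

/-- Functoriality. -/
def famMap {F G : ι → CochainComplex C ℤ} (s : ∀ i, F i ⟶ G i) : famCx F ⟶ famCx G where
  f n := Discrete.natTrans fun i => (s i.as).f n
  comm' m n _ := by ext ⟨i⟩; exact (s i).comm m n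

theorem quasiIso_famMap {F G : ι → CochainComplex C ℤ} (s : ∀ i, F i ⟶ G i) (hs : ∀ i, QuasiIso (s i)) :
    QuasiIso (famMap s) := by
  refine ⟨fun n => (quasiIsoAt_iff_isIso_homologyMap _ _).2 ?_⟩
  haveI : ∀ i : Discrete ι, IsIso ((HomologicalComplex.homologyMap (famMap s) n).app i) := fun ⟨i⟩ => by
    let E := (evaluation (Discrete ι) C).obj ⟨i⟩
    have h := ShortComplex.mapHomologyIso_hom_naturality
      (φ := (HomologicalComplex.shortComplexFunctor _ _ n).map (famMap s)) E
    haveI : IsIso (HomologicalComplex.homologyMap (s i) n) :=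
      (quasiIsoAt_iff_isIso_homologyMap _ _).1 inferInstance
    haveI : IsIso (ShortComplex.homologyMap
        (E.mapShortComplex.map ((HomologicalComplex.shortComplexFunctor _ _ n).map (famMap s)))) :=
      (inferInstance : IsIso (HomologicalComplex.homologyMap (s i) n))
    haveI : IsIso (ShortComplex.homologyMap
        (E.mapShortComplex.map ((HomologicalComplex.shortComplexFunctor _ _ n).map (famMap s))) ≫
          (((famCx G).sc n).mapHomologyIso E).hom) := inferInstance
    exact @IsIso.of_isIso_comp_left _ _ _ _ _ (((famCx F).sc n).mapHomologyIso E).hom _ _ ((congrArg (fun x => IsIso x) h).mp this)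
  exact NatIso.isIso_of_isIso_app _

variable [HasColimitsOfShape (Discrete ι) C]

/-- The coproduct of complexes. -/
abbrev coprodCx (F : ι → CochainComplex C ℤ) : CochainComplex C ℤ :=
  ((colim (J := Discrete ι) (C := C)).mapHomologicalComplex _).obj (famCx F)

/-- The inclusions. -/
def injCx (F : ι → CochainComplex C ℤ) (i : ι) : F i ⟶ coprodCx F where
  f n := colimit.ι (Discrete.functor fun i => (F i).X n) ⟨i⟩
  comm' m n _ := ι_colimMap (Discrete.natTrans fun i : Discrete ι => (F i.as).d m n :
    Discrete.functor (fun i => (F i).X m) ⟶ Discrete.functor (fun i => (F i).X n)) ⟨i⟩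

/-- The cofan. -/
abbrev cofanCx (F : ι → CochainComplex C ℤ) : Cofan F := Cofan.mk (coprodCx F) (injCx F)

/-- It is a coproduct. -/
def isColimitCx (F : ι → CochainComplex C ℤ) : IsColimit (cofanCx F) :=
  HomologicalComplex.isColimitOfEval _ _ fun n =>
    (isColimitMapCoconeCofanMkEquiv (HomologicalComplex.eval C (ComplexShape.up ℤ) n) _ _).symm
      (colimit.isColimit (Discrete.functor fun i => (F i).X n) |>.ofIsoColimit (Cofan.ext (Iso.refl _) (by intro i; exact Category.comp_id _)))

/-- Coproducts of maps. -/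
abbrev mapCx {F G : ι → CochainComplex C ℤ} (s : ∀ i, F i ⟶ G i) : coprodCx F ⟶ coprodCx G :=
  ((colim (J := Discrete ι) (C := C)).mapHomologicalComplex _).map (famMap s)

theorem injCx_mapCx {F G : ι → CochainComplex C ℤ} (s : ∀ i, F i ⟶ G i) (i : ι) :
    injCx F i ≫ mapCx s = s i ≫ injCx G i :=
  HomologicalComplex.hom_ext _ _ fun n => ι_colimMap ((famMap s).f n) ⟨i⟩

variable [HasExactColimitsOfShape (Discrete ι) C]

theorem quasiIso_mapCx {F G : ι → CochainComplex C ℤ} (s : ∀ i, F i ⟶ G i) (hs : ∀ i, QuasiIso (s i)) :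
    QuasiIso (mapCx s) := by
  haveI := quasiIso_famMap s hs
  haveI : (colim (J := Discrete ι) (C := C)).Additive := Functor.additive_of_preserves_binary_products _
  infer_instance

variable [HasDerivedCategory.{w} C]

open DerivedCategory

theorem exists_quasiIso_of_Q_map_eq_zero {X Y : CochainComplex C ℤ} (g : X ⟶ Y) (hg : Q.map g = 0) :
    ∃ (A : CochainComplex C ℤ) (t : A ⟶ X), QuasiIso t ∧ Nonempty (Homotopy (t ≫ g) 0) := by
  have h : Qh.map ((HomotopyCategory.quotient C (ComplexShape.up ℤ)).map g) =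
      Qh.map ((HomotopyCategory.quotient C (ComplexShape.up ℤ)).map 0) := by
    rw [← cancel_mono ((quotientCompQhIso C).hom.app Y)]
    have n1 := (quotientCompQhIso C).hom.naturality g
    have n2 := (quotientCompQhIso C).hom.naturality (0 : X ⟶ Y)
    dsimp only [Functor.comp_map] at n1 n2
    rw [n1, n2, hg, Q.map_zero]
  obtain ⟨A, t, ht, e⟩ := (MorphismProperty.map_eq_iff_precomp Qh (HomotopyCategory.quasiIso C _) _ _).1 h
  obtain ⟨A, rfl⟩ := HomotopyCategory.quotient_obj_surjective A
  obtain ⟨t, rfl⟩ := (HomotopyCategory.quotient _ _).map_surjective t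
  rw [← Functor.map_comp, ← Functor.map_comp, comp_zero] at e
  exact ⟨A, t, (HomotopyCategory.quotient_map_mem_quasiIso_iff t).1 ht, ⟨HomotopyCategory.homotopyOfEq _ _ e⟩⟩

/-- The inclusions induce a coproduct in the derived category. -/
theorem nonempty_isColimit_Q (M : ι → DerivedCategory C) (F : ι → CochainComplex C ℤ) (eM : ∀ i, M i ≅ Q.obj (F i)) :
    Nonempty (IsColimit (Cofan.mk (f := M) (Q.obj (coprodCx F)) fun i => (eM i).hom ≫ Q.map (injCx F i))) := by
  have key : ∀ (Z : DerivedCategory C) (k : ∀ i, M i ⟶ Z), ∃! m : Q.obj (coprodCx F) ⟶ Z,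
      ∀ i, ((eM i).hom ≫ Q.map (injCx F i)) ≫ m = k i := by
    intro Z k
    let eZ := Q.objObjPreimageIso Z
    choose A s hs g hg using fun i => right_fac ((eM i).inv ≫ k i ≫ eZ.inv)
    haveI : QuasiIso (mapCx s) := quasiIso_mapCx s fun i => by
      exact (isIso_Q_map_iff_quasiIso C (s i)).1 (hs i)
    let G := Cofan.IsColimit.desc (isColimitCx A) g
    have hG : ∀ i, injCx A i ≫ G = g i := fun i => Cofan.IsColimit.fac (isColimitCx A) g i
    refine ⟨inv (Q.map (mapCx s)) ≫ Q.map G ≫ eZ.hom, fun i => ?_, fun m hm => ?_⟩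
    · haveI := hs i
      have h1 : Q.map (injCx F i) ≫ inv (Q.map (mapCx s)) = inv (Q.map (s i)) ≫ Q.map (injCx A i) := by
        rw [IsIso.comp_inv_eq, Category.assoc, IsIso.eq_inv_comp, ← Q.map_comp, ← Q.map_comp, injCx_mapCx]
      rw [Category.assoc, ← Category.assoc (Q.map (injCx F i)), h1, Category.assoc, ← Q.map_comp_assoc, hG,
        ← Category.assoc (inv (Q.map (s i))), ← hg]
      simp [eZ]
    · obtain ⟨Z', f, r, hr, hf⟩ := left_fac ((m - inv (Q.map (mapCx s)) ≫ Q.map G ≫ eZ.hom) ≫ eZ.inv)
      have h0 : ∀ i, Q.map (injCx F i) ≫ (m - inv (Q.map (mapCx s)) ≫ Q.map G ≫ eZ.hom) = 0 := fun i => by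
        rw [← cancel_epi (eM i).hom, comp_zero, Preadditive.comp_sub, Preadditive.comp_sub, sub_eq_zero,
          ← Category.assoc, hm i]
        haveI := hs i
        have h1 : Q.map (injCx F i) ≫ inv (Q.map (mapCx s)) = inv (Q.map (s i)) ≫ Q.map (injCx A i) := by
          rw [IsIso.comp_inv_eq, Category.assoc, IsIso.eq_inv_comp, ← Q.map_comp, ← Q.map_comp, injCx_mapCx]
        rw [← Category.assoc (Q.map (injCx F i)), h1, Category.assoc, ← Q.map_comp_assoc, hG,
          ← Category.assoc (inv (Q.map (s i))), ← hg]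
        simp [eZ]
      have hfi : ∀ i, Q.map (injCx F i ≫ f) = 0 := fun i => by
        have hf' : Q.map f = ((m - inv (Q.map (mapCx s)) ≫ Q.map G ≫ eZ.hom) ≫ eZ.inv) ≫ Q.map r := by
          rw [hf, Category.assoc, IsIso.inv_hom_id, Category.comp_id]
        rw [Q.map_comp, hf', ← Category.assoc, ← Category.assoc, h0, zero_comp, zero_comp]
      choose B t ht H using fun i => exists_quasiIso_of_Q_map_eq_zero _ (hfi i)
      haveI : QuasiIso (mapCx t) := quasiIso_mapCx t ht
      obtain ⟨K⟩ := Groth.Agent.KInj.homotopic_zero_of_coproduct (isColimitCx B) (mapCx t ≫ f) fun i => by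
        refine ⟨(Homotopy.ofEq ?_).trans (H i).some⟩
        show injCx B i ≫ mapCx t ≫ f = t i ≫ injCx F i ≫ f
        rw [← Category.assoc, injCx_mapCx, Category.assoc]
      have h3 : Q.map f = 0 := by
        rw [← cancel_epi (Q.map (mapCx t)), comp_zero, ← Q.map_comp, Q_map_eq_of_homotopy _ K, Q.map_zero]
      rw [h3, zero_comp] at hf
      rw [← sub_eq_zero, ← cancel_mono eZ.inv, hf, zero_comp]
  choose m hm hu using fun (s : Cofan M) => key s.pt s.inj
  exact ⟨mkCofanColimit _ m hm hu⟩

/-- Cohomology of a coproduct. -/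
theorem nonempty_homology_iso (F : ι → CochainComplex C ℤ) (n : ℤ) :
    Nonempty ((coprodCx F).homology n ≅ ∐ fun i => (F i).homology n) := by
  haveI : (colim (J := Discrete ι) (C := C)).Additive := Functor.additive_of_preserves_binary_products _
  exact ⟨((famCx F).sc n).mapHomologyIso (colim (J := Discrete ι) (C := C)) ≪≫
    HasColimit.isoOfNatIso (Discrete.natIso fun i =>
      (((famCx F).sc n).mapHomologyIso ((evaluation (Discrete ι) C).obj i)).symm)⟩

/-- Cohomology of a coproduct in the derived category. -/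
theorem nonempty_HD_iso (M : ι → DerivedCategory C) [HasCoproduct M] (n : ℤ) :
    Nonempty ((homologyFunctor C n).obj (∐ M) ≅ ∐ fun i => (homologyFunctor C n).obj (M i)) := by
  obtain ⟨hQ⟩ := nonempty_isColimit_Q M (fun i => Q.objPreimage (M i)) fun i => (Q.objObjPreimageIso (M i)).symm
  obtain ⟨e⟩ := nonempty_homology_iso (fun i => Q.objPreimage (M i)) n
  exact ⟨(homologyFunctor C n).mapIso ((coproductIsCoproduct M).coconePointUniqueUpToIso hQ) ≪≫
    (homologyFunctorFactors C n).app _ ≪≫ e ≪≫ Sigma.mapIso fun i =>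
      ((homologyFunctorFactors C n).app _).symm ≪≫ (homologyFunctor C n).mapIso (Q.objObjPreimageIso (M i))⟩

end Groth.Agent.DerCoprod

end
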